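import Mathlib.RingTheory.Smooth.Fiber
import Mathlib.RingTheory.Unramified.LocalRing
import Mathlib.RingTheory.Unramified.LocalStructure
import Mathlib.RingTheory.Etale.Field
import Mathlib.RingTheory.Etale.Locus
import Mathlib.RingTheory.Flat.Localization
import Mathlib.RingTheory.EssentialFiniteness

/-!
# Etale local homomorphisms
-/

noncomputable section

namespace Groth.Agent.EtLoc7

open IsLocalRing Algebra

open scoped TensorProduct

universe u

variable (R S : Type u) [CommRing R] [CommRing S] [Algebra R S] [IsNoetherianRing R]
  [IsLocalRing R] [IsLocalRing S] [IsLocalHom (algebraMap R S)] [Algebra.EssFiniteType R S] [Module.Flat R S]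

attribute [local instance] FormallyEtale.of_formallyUnramified_of_field

theorem formallyEtale_of_formallyUnramified [Algebra.FormallyUnramified R S] : Algebra.FormallyEtale R S := by
  have : Algebra.FinitePresentation R (EssFiniteType.subalgebra R S) :=
    Algebra.FinitePresentation.of_finiteType.mp inferInstance
  have : Algebra.FormallyEtale (ResidueField R) (ResidueField R ⊗[R] S) :=
    FormallyEtale.of_formallyUnramified_of_field _ _
  have : Algebra.FormallySmooth R S :=
    FormallySmooth.of_formallySmooth_residueField_tensor (EssFiniteType.submonoid R S)
  exact FormallyEtale.iff_formallyUnramified_and_formallySmooth.mpr ⟨inferInstance, inferInstance⟩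

end Groth.Agent.EtLoc7

namespace Groth.Agent.EtLoc7

universe u

open Algebra IsLocalRing

variable (A B : Type u) [CommRing A] [CommRing B] [Algebra A B] [IsNoetherianRing A] [Algebra.FiniteType A B]
  (p : Ideal A) [p.IsPrime] (q : Ideal B) [q.IsPrime] [q.LiesOver p]
  [Algebra (Localization.AtPrime p) (Localization.AtPrime q)]
  [Localization.AtPrime.IsLiesOverAlgebra p q]

include p in
theorem isEtaleAt_iff :
    Algebra.IsEtaleAt A q ↔
      Module.Flat (Localization.AtPrime p) (Localization.AtPrime q) ∧
        p.map (algebraMap A (Localization.AtPrime q)) = IsLocalRing.maximalIdeal (Localization.AtPrime q) ∧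
        Module.Finite p.ResidueField q.ResidueField ∧
        Algebra.IsSeparable p.ResidueField q.ResidueField := by
  have : Algebra.FinitePresentation A B := Algebra.FinitePresentation.of_finiteType.mp inferInstance
  have : IsScalarTower A (Localization.AtPrime p) (Localization.AtPrime q) := inferInstance
  constructor
  · intro h
    have : Algebra.IsUnramifiedAt A q := (inferInstance : Algebra.FormallyUnramified A (Localization.AtPrime q))
    obtain ⟨hsep, hmap⟩ := (Algebra.isUnramifiedAt_iff_map_eq A p q).mp this
    refine ⟨?_, hmap, inferInstance, hsep⟩
    obtain ⟨f, hf, hfet⟩ := Algebra.exists_etale_of_isEtaleAt (R := A) q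
    have : Module.Flat A (Localization.Away f) := inferInstance
    let : Algebra (Localization.Away f) (Localization.AtPrime q) :=
      (IsLocalization.map (M := Submonoid.powers f) (T := q.primeCompl) (Localization.AtPrime q) (RingHom.id B)
        (show Submonoid.powers f ≤ q.primeCompl.comap (RingHom.id B) from
          Submonoid.powers_le.mpr hf)).toAlgebra
    have : IsScalarTower B (Localization.Away f) (Localization.AtPrime q) :=
      .of_algebraMap_eq fun x => by
        rw [RingHom.algebraMap_toAlgebra, IsLocalization.map_eq, RingHom.id_apply]
    have : IsScalarTower A (Localization.Away f) (Localization.AtPrime q) :=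
      .of_algebraMap_eq fun x => by
        rw [IsScalarTower.algebraMap_apply A B (Localization.AtPrime q),
          IsScalarTower.algebraMap_apply A B (Localization.Away f), ← IsScalarTower.algebraMap_apply B (Localization.Away f)]
    have : IsLocalization (Algebra.algebraMapSubmonoid (Localization.Away f) q.primeCompl) (Localization.AtPrime q) :=
      IsLocalization.isLocalization_of_submonoid_le (Localization.Away f) (Localization.AtPrime q)
        (Submonoid.powers f) q.primeCompl (Submonoid.powers_le.mpr hf)
    have : Module.Flat (Localization.Away f) (Localization.AtPrime q) :=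
      IsLocalization.flat _ (Algebra.algebraMapSubmonoid (Localization.Away f) q.primeCompl)
    have : Module.Flat A (Localization.AtPrime q) := Module.Flat.trans A (Localization.Away f) _
    exact (Module.flat_iff_of_isLocalization (Localization.AtPrime p) p.primeCompl (Localization.AtPrime q)).mpr this
  · rintro ⟨hflat, hmap, hfin, hsep⟩
    have hu : Algebra.IsUnramifiedAt A q := (Algebra.isUnramifiedAt_iff_map_eq A p q).mpr ⟨hsep, hmap⟩
    have : Algebra.EssFiniteType (Localization.AtPrime p) (Localization.AtPrime q) := .of_comp A _ _
    have : Algebra.FormallyUnramified (Localization.AtPrime p) (Localization.AtPrime q) :=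
      .of_restrictScalars A _ _
    have : IsNoetherianRing (Localization.AtPrime p) := IsLocalization.isNoetherianRing p.primeCompl _ inferInstance
    have : Algebra.FormallyEtale (Localization.AtPrime p) (Localization.AtPrime q) :=
      formallyEtale_of_formallyUnramified _ _
    exact Algebra.FormallyEtale.comp A (Localization.AtPrime p) (Localization.AtPrime q)

end Groth.Agent.EtLoc7
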